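/-
BG section 15: the subgroup M_F.
-/
import Cfsg.Agent.BG.Sec15c
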